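import Groth.Agent.L03.Akizuki
import Mathlib.RingTheory.DedekindDomain.Ideal.Lemmas
import Mathlib.RingTheory.DedekindDomain.Factorization
import Mathlib.RingTheory.IntegralClosure.IntegrallyClosed
import Mathlib.RingTheory.Nakayama
import Mathlib.RingTheory.Localization.BaseChange
import Mathlib.RingTheory.LocalRing.ResidueField.Basic

/-!
Generators of modules over one-dimensional local domains and the multiplicity.
-/

set_option autoImplicit false
universe u v w

open IsLocalRing

namespace Groth.L21.Mult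

variable {R : Type u} [CommRing R]

theorem spanFinrank_le_length [IsLocalRing R] (M : Type v) [AddCommGroup M] [Module R M]
    [Module.Finite R M] :
    ((⊤ : Submodule R M).spanFinrank : ℕ∞) ≤
      Module.length R (M ⧸ (maximalIdeal R • ⊤ : Submodule R M)) := by
  letI : Field (R ⧸ maximalIdeal R) := Ideal.Quotient.field _
  haveI : Module.Finite (R ⧸ maximalIdeal R) (M ⧸ (maximalIdeal R • ⊤ : Submodule R M)) :=
    Module.Finite.of_restrictScalars_finite R _ _
  rw [Module.length_eq_of_surjective (R := R ⧸ maximalIdeal R) (S := R) Ideal.Quotient.mk_surjective,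
    Module.length_eq_finrank (K := R ⧸ maximalIdeal R)]
  let b := Module.finBasis (R ⧸ maximalIdeal R) (M ⧸ (maximalIdeal R • ⊤ : Submodule R M))
  choose x hx using fun i => Submodule.mkQ_surjective _ (b i)
  have hspan : Submodule.span R (Set.range x) = ⊤ := by
    refine top_le_iff.mp (Submodule.le_of_le_smul_of_le_jacobson_bot Module.Finite.fg_top
      (IsLocalRing.maximalIdeal_le_jacobson ⊥) fun y _ => ?_)
    have hy : Submodule.Quotient.mk y ∈ (Submodule.span R (Set.range x)).map (maximalIdeal R • ⊤ : Submodule R M).mkQ := by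
      rw [Submodule.map_span, ← Set.range_comp, show (Submodule.mkQ _ ∘ x) = b from funext hx]
      have := Submodule.restrictScalars_span R (R ⧸ maximalIdeal R) Ideal.Quotient.mk_surjective (Set.range b)
      rw [b.span_eq] at this
      rw [← this]
      trivial
    obtain ⟨z, hz, hzy⟩ := hy
    rw [← sub_add_cancel y z, add_comm]
    exact Submodule.add_mem_sup hz ((Submodule.Quotient.eq _).mp hzy.symm)
  conv_lhs => rw [← hspan]
  refine (Submodule.spanFinrank_span_le_encard _).trans ?_
  rw [← Set.image_univ]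
  refine (Set.encard_image_le x Set.univ).trans ?_
  simp

/-- The lengths modulo a regular element agree for modules differing by finite length. -/
theorem length_quotient_eq_of_finite_coker {A : Type v} {B : Type w} [AddCommGroup A] [Module R A]
    [AddCommGroup B] [Module R B] (ι : A →ₗ[R] B) (hι : Function.Injective ι)
    (hfin : Module.length R (B ⧸ LinearMap.range ι) ≠ ⊤) (x : R)
    (hx : Function.Injective fun b : B => x • b) :
    Module.length R (B ⧸ Groth.L03.Akizuki.xSub x B) = Module.length R (A ⧸ Groth.L03.Akizuki.xSub x A) := by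
  let W : Submodule R B := LinearMap.range ι
  let Q : Submodule R B := LinearMap.range (ι ∘ₗ (x • LinearMap.id : A →ₗ[R] A))
  have hQW : Q ≤ W := LinearMap.range_comp_le_range _ _
  have hQX : Q ≤ Groth.L03.Akizuki.xSub x B := by
    rintro _ ⟨v, rfl⟩
    exact ⟨ι v, by simp⟩
  let i₁ : (A ⧸ Groth.L03.Akizuki.xSub x A) →ₗ[R] B ⧸ Q := (Groth.L03.Akizuki.xSub x A).mapQ Q ι (by rintro _ ⟨v, rfl⟩; exact ⟨v, rfl⟩)
  have hi₁ : Function.Injective i₁ := by
    rw [← LinearMap.ker_eq_bot, LinearMap.ker_eq_bot']
    intro z hz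
    obtain ⟨v, rfl⟩ := Submodule.mkQ_surjective _ z
    obtain ⟨w, hw⟩ := (Submodule.Quotient.mk_eq_zero Q).1 hz
    exact (Submodule.Quotient.mk_eq_zero _).2 ⟨w, hι hw⟩
  have he₁ : Function.Exact i₁ (Submodule.factor hQW) := by
    intro z
    obtain ⟨y, rfl⟩ := Q.mkQ_surjective z
    constructor
    · intro h
      obtain ⟨v, rfl⟩ := (Submodule.Quotient.mk_eq_zero W).1 h
      exact ⟨Submodule.Quotient.mk v, rfl⟩
    · rintro ⟨v, hv⟩
      obtain ⟨v, rfl⟩ := Submodule.mkQ_surjective _ v
      rw [← hv]
      exact (Submodule.Quotient.mk_eq_zero W).2 ⟨v, rfl⟩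
  let i₂ : (B ⧸ W) →ₗ[R] B ⧸ Q :=
    W.mapQ Q (x • LinearMap.id) (by rintro _ ⟨v, rfl⟩; exact ⟨v, by simp⟩)
  have hi₂ : Function.Injective i₂ := by
    rw [← LinearMap.ker_eq_bot, LinearMap.ker_eq_bot']
    intro z hz
    obtain ⟨y, rfl⟩ := Submodule.mkQ_surjective _ z
    obtain ⟨w, hw⟩ := (Submodule.Quotient.mk_eq_zero Q).1 hz
    refine (Submodule.Quotient.mk_eq_zero W).2 ⟨w, hx ?_⟩
    simpa using hw
  have he₂ : Function.Exact i₂ (Submodule.factor hQX) := by
    intro z
    obtain ⟨y, rfl⟩ := Q.mkQ_surjective z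
    constructor
    · intro h
      obtain ⟨v, rfl⟩ := (Submodule.Quotient.mk_eq_zero (Groth.L03.Akizuki.xSub x B)).1 h
      exact ⟨Submodule.Quotient.mk v, rfl⟩
    · rintro ⟨v, hv⟩
      obtain ⟨v, rfl⟩ := Submodule.mkQ_surjective _ v
      rw [← hv]
      exact (Submodule.Quotient.mk_eq_zero _).2 ⟨v, rfl⟩
  have e1 := Module.length_eq_add_of_exact i₁ (Submodule.factor hQW) hi₁
    (Submodule.factor_surjective hQW) he₁
  have e2 := Module.length_eq_add_of_exact i₂ (Submodule.factor hQX) hi₂
    (Submodule.factor_surjective hQX) he₂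
  rw [e2, add_comm] at e1
  exact WithTop.add_right_cancel hfin e1

/-- Finitely many proper submodules over a local ring with infinite residue field do not cover. -/
theorem exists_forall_notMem [IsLocalRing R] [Infinite (ResidueField R)] {M : Type v} [AddCommGroup M]
    [Module R M] {ι : Type w} (s : Finset ι) (P : ι → Submodule R M) (hP : ∀ i ∈ s, P i ≠ ⊤) :
    ∃ a : M, ∀ i ∈ s, a ∉ P i := by
  classical
  induction s using Finset.induction_on with
  | empty => exact ⟨0, by simp⟩
  | insert j s hj ih =>
    obtain ⟨a, ha⟩ := ih fun i hi => hP i (Finset.mem_insert_of_mem hi)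
    obtain ⟨b, -, hb⟩ := SetLike.exists_of_lt (lt_top_iff_ne_top.mpr (hP j (Finset.mem_insert_self _ _)))
    by_cases haj : a ∈ P j
    swap
    · exact ⟨a, fun i hi => (Finset.mem_insert.mp hi).elim (fun e => e ▸ haj) (ha i)⟩
    choose r hr using residue_surjective (R := R)
    let bad : ι → Set (ResidueField R) := fun i => {c | a + r c • b ∈ P i}
    have hbad : ∀ i ∈ s, (bad i).Subsingleton := by
      intro i hi c hc c' hc'
      by_contra hne
      have hu : IsUnit (r c - r c') := by
        by_contra hu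
        apply hne
        have : residue R (r c - r c') = 0 := (residue_eq_zero_iff _).mpr hu
        rwa [map_sub, hr, hr, sub_eq_zero] at this
      have h1 : (r c - r c') • b ∈ P i := by
        have := (P i).sub_mem hc hc'
        rwa [add_sub_add_left_eq_sub, ← sub_smul] at this
      have h2 : b ∈ P i := by
        obtain ⟨w, hw⟩ := hu
        rw [← hw] at h1
        simpa [← mul_smul] using (P i).smul_mem (↑w⁻¹ : R) h1
      exact ha i hi (by simpa using (P i).sub_mem hc ((P i).smul_mem (r c) h2))
    have hfin : (⋃ i ∈ s, bad i).Finite := s.finite_toSet.biUnion fun i hi => (hbad i hi).finite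
    obtain ⟨c, hc⟩ := ((hfin.insert 0).infinite_compl).nonempty
    simp only [Set.mem_compl_iff, Set.mem_insert_iff, Set.mem_iUnion, not_or, not_exists] at hc
    refine ⟨a + r c • b, fun i hi => ?_⟩
    rcases Finset.mem_insert.mp hi with rfl | hi
    · intro h
      have h1 : r c • b ∈ P i := by simpa using (P i).sub_mem h haj
      have hu : IsUnit (r c) := by
        by_contra hu
        exact hc.1 ((hr c).symm.trans ((residue_eq_zero_iff _).mpr hu))
      obtain ⟨w, hw⟩ := hu
      rw [← hw] at h1
      exact hb (by simpa [← mul_smul] using (P i).smul_mem (↑w⁻¹ : R) h1)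
    · exact hc.2 i hi

variable [IsDomain R] [IsNoetherianRing R] [IsLocalRing R]
  {K : Type v} [Field K] [Algebra R K] [IsFractionRing R K]

/-- With infinite residue field some element of the maximal ideal generates its extension to the
normalisation. -/
theorem exists_span_eq_map [Ring.KrullDimLE 1 R] [Infinite (ResidueField R)]
    (hne : ¬ IsField R) (hfin : Module.Finite R (integralClosure R K)) :
    ∃ t ∈ maximalIdeal R, t ≠ 0 ∧ Ideal.span {algebraMap R (integralClosure R K) t} =
      (maximalIdeal R).map (algebraMap R (integralClosure R K)) := by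
  classical
  set S := integralClosure R K
  haveI : IsIntegrallyClosed S := integralClosure.isIntegrallyClosedOfFiniteExtension K
  haveI : IsNoetherianRing S := IsNoetherianRing.of_finite R S
  haveI : Ring.DimensionLEOne S := by
    refine ⟨fun {p} hp0 hp => ?_⟩
    haveI := hp
    have h1 : (p.comap (algebraMap R S)).IsPrime := Ideal.IsPrime.comap _
    have h2 : p.comap (algebraMap R S) ≠ ⊥ := Ideal.comap_ne_bot_of_integral_mem (R := R)
      (x := (p.ne_bot_iff.mp hp0).choose) (p.ne_bot_iff.mp hp0).choose_spec.2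
      (p.ne_bot_iff.mp hp0).choose_spec.1 (Algebra.IsIntegral.isIntegral _)
    exact Ideal.isMaximal_of_isIntegral_of_isMaximal_comap p
      (h1.isMaximal_of_ne_bot h2)
  haveI : IsDedekindDomain S := { }
  set φ := algebraMap R S
  have hφ : Function.Injective φ := fun a b h =>
    IsFractionRing.injective R K (congrArg Subtype.val h)
  set J := (maximalIdeal R).map φ
  have hm : maximalIdeal R ≠ ⊥ := fun h => hne (isField_iff_maximalIdeal_eq.mpr h)
  have hJ : J ≠ ⊥ := fun h => hm ((Ideal.map_eq_bot_iff_of_injective hφ).mp h)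
  have hover : ∀ Q : Ideal S, Q.IsMaximal → J ≤ Q := fun Q hQ => by
    haveI := hQ
    rw [Ideal.map_le_iff_le_comap]
    exact (IsLocalRing.eq_maximalIdeal (Ideal.isMaximal_comap_of_isIntegral_of_isMaximal Q)).ge
  have hfinQ : {Q : Ideal S | Q.IsMaximal}.Finite := by
    refine ((Ideal.finite_factors hJ).image IsDedekindDomain.HeightOneSpectrum.asIdeal).subset
      fun Q hQ => ?_
    have hQ0 : Q ≠ ⊥ := fun h => hJ (le_bot_iff.mp (h ▸ hover Q hQ))
    exact ⟨⟨Q, hQ.isPrime, hQ0⟩, Ideal.dvd_iff_le.mpr (hover Q hQ), rfl⟩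
  let P : Ideal S → Submodule R (maximalIdeal R) := fun Q =>
    (((J * Q).restrictScalars R).comap (Algebra.linearMap R S)).comap (maximalIdeal R).subtype
  obtain ⟨⟨t, ht⟩, hP⟩ := exists_forall_notMem hfinQ.toFinset P fun Q hQ h => by
    have hQ' : Q.IsMaximal := hfinQ.mem_toFinset.mp hQ
    have h1 : J ≤ J * Q := Ideal.map_le_iff_le_comap.mpr fun a ha =>
      (h ▸ Submodule.mem_top : (⟨a, ha⟩ : maximalIdeal R) ∈ P Q)
    refine hQ'.ne_top ?_
    have h2 : J * Q = J * 1 := by rw [mul_one]; exact le_antisymm Ideal.mul_le_left h1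
    rw [← Ideal.one_eq_top]
    exact mul_left_cancel₀ hJ h2
  obtain ⟨Q₀, hQ₀⟩ := Ideal.exists_maximal S
  have ht0 : t ≠ 0 := fun h => hP Q₀ (hfinQ.mem_toFinset.mpr hQ₀) (by
    show φ t ∈ J * Q₀
    rw [h, map_zero]; exact zero_mem _)
  refine ⟨t, ht, ht0, ?_⟩
  obtain ⟨I, hI⟩ : J ∣ Ideal.span {φ t} :=
    Ideal.dvd_iff_le.mpr ((Ideal.span_singleton_le_iff_mem _).mpr (Ideal.mem_map_of_mem φ ht))
  rcases eq_or_ne I ⊤ with rfl | hI'
  · rw [hI, Ideal.mul_top]
  obtain ⟨Q, hQ, hIQ⟩ := Ideal.exists_le_maximal I hI'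
  exact absurd (Ideal.mul_mono_right hIQ (hI ▸ Ideal.mem_span_singleton_self (φ t)))
    (hP Q (hfinQ.mem_toFinset.mpr hQ))

theorem spanFinrank_le_rank_mul_multiplicity [Ring.KrullDimLE 1 R] [Infinite (ResidueField R)]
    (hne : ¬ IsField R) (hfin : Module.Finite R (integralClosure R K)) (M : Type w) [AddCommGroup M]
    [Module R M] [Module.Finite R M] {V : Type*} [AddCommGroup V] [Module K V] [Module R V]
    [IsScalarTower R K V] [FiniteDimensional K V] (ι : M →ₗ[R] V) (hι : Function.Injective ι) :
    ((⊤ : Submodule R M).spanFinrank : ℕ∞) ≤ (Module.finrank K V : ℕ∞) *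
      Module.length R (↥(integralClosure R K) ⧸
        (maximalIdeal R) • (⊤ : Submodule R ↥(integralClosure R K))) := by
  classical
  obtain ⟨t, ht, ht0, hspan⟩ := exists_span_eq_map hne hfin
  refine (spanFinrank_le_length M).trans ?_
  have hle : Groth.L03.Akizuki.xSub t M ≤ maximalIdeal R • ⊤ := by
    rintro _ ⟨v, rfl⟩
    simpa using Submodule.smul_mem_smul ht (Submodule.mem_top (x := v))
  refine (Module.length_le_of_surjective _ (Submodule.factor_surjective hle)).trans ?_
  refine (Groth.L03.Akizuki.length_le (K := K) ι hι ht0).trans (le_of_eq ?_)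
  congr 1
  let S := integralClosure R K
  have hS : Groth.L03.Akizuki.xSub t S = maximalIdeal R • (⊤ : Submodule R S) := by
    rw [Groth.L03.Akizuki.xSub_eq, Ideal.smul_top_eq_map, Ideal.smul_top_eq_map, Ideal.map_span,
      Set.image_singleton, hspan]
  have hinj : Function.Injective (Algebra.linearMap R S) := fun a b h =>
    IsFractionRing.injective R K (congrArg Subtype.val h)
  have hcfin : Module.length R (S ⧸ LinearMap.range (Algebra.linearMap R S)) ≠ ⊤ := by
    obtain ⟨c, hc, hcS⟩ : ∃ c : R, c ≠ 0 ∧ ∀ s : S, c • s ∈ LinearMap.range (Algebra.linearMap R S) := by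
      obtain ⟨T, hT⟩ := hfin.fg_top
      obtain ⟨c, hc⟩ := IsLocalization.exist_integer_multiples_of_finset (nonZeroDivisors R)
        (T.image (fun s : S => (s : K)))
      refine ⟨c, nonZeroDivisors.ne_zero c.2, fun s => ?_⟩
      have hs : s ∈ Submodule.span R (T : Set S) := hT ▸ Submodule.mem_top
      induction hs using Submodule.span_induction with
      | mem x hx =>
        obtain ⟨a, ha⟩ := hc x (Finset.mem_image_of_mem _ hx)
        exact ⟨a, Subtype.ext ha⟩
      | zero => simp
      | add x y _ _ hx hy => rw [smul_add]; exact add_mem hx hy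
      | smul r x _ hx => rw [smul_comm]; exact Submodule.smul_mem _ r hx
    set W := LinearMap.range (Algebra.linearMap R S)
    obtain ⟨m, p, hp⟩ := Module.Finite.exists_fin' R S
    have hker : Groth.L03.Akizuki.xSub c (Fin m → R) ≤ LinearMap.ker (W.mkQ ∘ₗ p) := by
      rintro _ ⟨v, rfl⟩
      exact (Submodule.Quotient.mk_eq_zero W).2 (by simpa using hcS (p v))
    have hsurj : Function.Surjective ((Groth.L03.Akizuki.xSub c (Fin m → R)).liftQ (W.mkQ ∘ₗ p) hker) := by
      intro y
      obtain ⟨y, rfl⟩ := W.mkQ_surjective y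
      obtain ⟨v, rfl⟩ := hp y
      exact ⟨Submodule.Quotient.mk v, rfl⟩
    refine ne_top_of_le_ne_top ?_ (Module.length_le_of_surjective _ hsurj)
    rw [Groth.L03.Akizuki.length_free]
    exact WithTop.mul_ne_top (ENat.coe_ne_top m) (Ring.ord_ne_top (mem_nonZeroDivisors_of_ne_zero hc))
  have heq := length_quotient_eq_of_finite_coker (Algebra.linearMap R S) hinj hcfin t
    fun a b h => by
      have h' : (t • a : S) = t • b := h
      rw [Algebra.smul_def, Algebra.smul_def] at h'
      exact mul_left_cancel₀ (fun e => ht0 (IsFractionRing.injective R K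
        ((congrArg Subtype.val e).trans (map_zero _).symm))) h'
  rw [← hS, heq]
  have hspanR : Groth.L03.Akizuki.xSub t R = Ideal.span {t} := by
    rw [Groth.L03.Akizuki.xSub_eq]; simp
  rw [Ring.ord]
  exact (Submodule.quotEquivOfEq _ _ hspanR).length_eq.symm

end Groth.L21.Mult
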